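import Cfsg.Agent.McL.Mult.Data
import Cfsg.Agent.StemCert.Stream
import Cfsg.Agent.LeechModel.Words

/-! Entries at the lower levels. -/

set_option autoImplicit false
set_option maxHeartbeats 0
set_option maxRecDepth 100000
set_option Elab.async false

namespace Cfsg.Agent.McL.Mult

open Cfsg Cfsg.Agent.Compute Cfsg.Agent.StemCert Cfsg.Agent.LeechModel

theorem ent1_1_0 : allFrom 0 81 (cert.entM 20 pvs 1 1) = true := by decide +kernel
theorem ent1_1_81 : allFrom 81 81 (cert.entM 20 pvs 1 1) = true := by decide +kernel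
theorem ent1_2_0 : allFrom 0 81 (cert.entM 20 pvs 1 2) = true := by decide +kernel
theorem ent1_2_81 : allFrom 81 81 (cert.entM 20 pvs 1 2) = true := by decide +kernel
theorem ent1_3_0 : allFrom 0 81 (cert.entM 20 pvs 1 3) = true := by decide +kernel
theorem ent1_3_81 : allFrom 81 81 (cert.entM 20 pvs 1 3) = true := by decide +kernel
theorem ent1_4_0 : allFrom 0 81 (cert.entM 20 pvs 1 4) = true := by decide +kernel
theorem ent1_4_81 : allFrom 81 81 (cert.entM 20 pvs 1 4) = true := by decide +kernel
theorem ent1_5_0 : allFrom 0 81 (cert.entM 20 pvs 1 5) = true := by decide +kernel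
theorem ent1_5_81 : allFrom 81 81 (cert.entM 20 pvs 1 5) = true := by decide +kernel
theorem ent2_1_0 : allFrom 0 105 (cert.entM 20 pvs 2 1) = true := by decide +kernel
theorem ent2_2_0 : allFrom 0 105 (cert.entM 20 pvs 2 2) = true := by decide +kernel
theorem ent2_3_0 : allFrom 0 105 (cert.entM 20 pvs 2 3) = true := by decide +kernel
theorem ent2_4_0 : allFrom 0 105 (cert.entM 20 pvs 2 4) = true := by decide +kernel
theorem ent3_1_0 : allFrom 0 64 (cert.entM 20 pvs 3 1) = true := by decide +kernel
theorem ent3_2_0 : allFrom 0 64 (cert.entM 20 pvs 3 2) = true := by decide +kernel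
theorem ent3_3_0 : allFrom 0 64 (cert.entM 20 pvs 3 3) = true := by decide +kernel
theorem ent4_1_0 : allFrom 0 3 (cert.entM 20 pvs 4 1) = true := by decide +kernel

end Cfsg.Agent.McL.Mult
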