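import Cfsg.Agent.McL.Mult.Data
import Cfsg.Agent.StemCert.Stream
import Cfsg.Agent.LeechModel.Words

/-! Entries of generator 3 at level 0. -/

set_option autoImplicit false
set_option maxHeartbeats 0
set_option maxRecDepth 100000
set_option Elab.async false

namespace Cfsg.Agent.McL.Mult

open Cfsg Cfsg.Agent.Compute Cfsg.Agent.StemCert Cfsg.Agent.LeechModel

theorem ent0_3_0 : allFrom 0 92 (cert.entM 20 pvs 0 3) = true := by decide +kernel
theorem ent0_3_92 : allFrom 92 91 (cert.entM 20 pvs 0 3) = true := by decide +kernel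
theorem ent0_3_183 : allFrom 183 92 (cert.entM 20 pvs 0 3) = true := by decide +kernel

end Cfsg.Agent.McL.Mult
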