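import Cfsg.Agent.McL.Mult.Data
import Cfsg.Agent.StemCert.Reduced
import Cfsg.Agent.LeechModel.Words

/-! Packed values of the variables. -/

set_option autoImplicit false
set_option maxHeartbeats 0
set_option maxRecDepth 100000
set_option Elab.async false

namespace Cfsg.Agent.McL.Mult

open Cfsg Cfsg.Agent.Compute Cfsg.Agent.StemCert Cfsg.Agent.LeechModel

theorem val1_1 : cert.pvF pvs 1 1 = true := by decide +kernel
theorem val1_2 : cert.pvF pvs 1 2 = true := by decide +kernel
theorem val1_3 : cert.pvF pvs 1 3 = true := by decide +kernel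
theorem val1_4 : cert.pvF pvs 1 4 = true := by decide +kernel
theorem val1_5 : cert.pvF pvs 1 5 = true := by decide +kernel

end Cfsg.Agent.McL.Mult
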